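import Groth.Agent.Lib.EtColim.Main
import Groth.Agent.Lib.EtStalk.Basic
import Mathlib.Algebra.Module.LocalizedModule.Basic
import Mathlib.CategoryTheory.Functor.OfSequence

/-!
# Étale cohomology commutes with localizations of `ℤ`
-/

universe u

set_option maxHeartbeats 800000
set_option backward.isDefEq.respectTransparency false
set_option backward.isDefEq.respectTransparency.types false

open CategoryTheory CategoryTheory.Limits AlgebraicGeometry Opposite
open Groth.Agent.EtStalk Groth.Agent.EtSite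

namespace Groth.Agent.EtLocalize24

variable {X : Scheme.{u}} {F G : EtCoh.Ab X} (φ : F ⟶ G)

instance preservesFilteredColimits_forget₀ :
    PreservesFilteredColimitsOfSize.{0, 0} (forget AddCommGrpCat.{u + 1}) :=
  preservesFilteredColimitsOfSize_shrink.{0, u + 1, 0, u + 1} _

theorem additive_HF (i : ℕ) : (EtCoh.HF X i).Additive := ⟨fun {F G f g} => by
  ext x
  show Abelian.Ext.comp x (Abelian.Ext.mk₀ (f + g)) (add_zero i) = _
  rw [Abelian.Ext.mk₀_add, Abelian.Ext.comp_add]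
  rfl⟩

theorem ab_zsmul_id (z : ℤ) (A : AddCommGrpCat.{u + 1}) (a : A) : (z • 𝟙 A : A ⟶ A) a = z • a := rfl

theorem cat_zsmul_id_comp {C : Type*} [Category C] [Preadditive C] (z : ℤ) {A B : C} (f : A ⟶ B) :
    (z • 𝟙 A) ≫ f = z • f := by rw [Preadditive.zsmul_comp, Category.id_comp]

theorem cat_comp_zsmul_id {C : Type*} [Category C] [Preadditive C] (z : ℤ) {A B : C} (f : A ⟶ B) :
    f ≫ (z • 𝟙 B) = z • f := by rw [Preadditive.comp_zsmul, Category.comp_id]

theorem app_zsmul (z : ℤ) (H : EtCoh.Ab X) (U : X.Etale) (s : H.obj.obj (op U)) :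
    (z • 𝟙 H : H ⟶ H).hom.app (op U) s = z • s := by
  let ev := sheafToPresheaf X.smallEtaleTopology AddCommGrpCat.{u + 1} ⋙ (evaluation _ _).obj (op U)
  haveI : ev.Additive := { }
  have h : ev.map (z • 𝟙 H) = z • 𝟙 (ev.obj H) := by rw [Functor.map_zsmul, CategoryTheory.Functor.map_id]
  exact (ConcreteCategory.congr_hom h s).trans (ab_zsmul_id z _ s)

theorem stalk_zsmul (z : ℤ) (H : EtCoh.Ab X) {Ω : Type u} [Field Ω] [IsSepClosed Ω]
    (ξ : Spec (CommRingCat.of Ω) ⟶ X) {U : X.Etale} (x : fib ξ U) (s : H.obj.obj (op U)) :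
    (EtCoh.stalk ξ).map (z • 𝟙 H) (germ ξ H x s) = germ ξ H x (z • s) := by
  rw [germ_nat, app_zsmul]

/-- A germ is a germ on an affine étale scheme. -/
theorem exists_affine_germ (H : EtCoh.Ab X) {Ω : Type u} [Field Ω] [IsSepClosed Ω]
    (ξ : Spec (CommRingCat.of Ω) ⟶ X) {U : X.Etale} (x : fib ξ U) :
    ∃ (V : X.Etale) (g : V ⟶ U) (y : fib ξ V), IsAffine V.left ∧
      (Scheme.pointSmallEtale ξ).fiber.map g y = x := by
  let xl : Spec (CommRingCat.of Ω) ⟶ U.left := x.left
  obtain ⟨O, hO, hxO, -⟩ := exists_isAffineOpen_mem_and_subset (X := U.left) (x := xl default) (U := ⊤) trivial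
  have hr : Set.range xl ⊆ Set.range O.ι := by
    rw [O.range_ι]
    rintro _ ⟨b, rfl⟩
    rwa [show b = default from Subsingleton.elim (α := PrimeSpectrum Ω) _ _]
  refine ⟨sub U O, subHom U O, Over.homMk (IsOpenImmersion.lift O.ι xl hr) ?_, hO,
    Over.OverMorphism.ext (IsOpenImmersion.lift_fac _ _ _)⟩
  exact (Category.assoc _ _ _).symm.trans
    ((congrArg (· ≫ U.hom) (IsOpenImmersion.lift_fac _ _ _)).trans (Over.w x))

variable (S : Submonoid ℤ) (e : ℕ → S)

/-- The product of the first `n` elements of the sequence. -/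
def aprod : ℕ → S
  | 0 => 1
  | n + 1 => aprod n * e n

/-- The sequential diagram of multiplications. -/
noncomputable def diag (F : EtCoh.Ab X) : ℕ ⥤ EtCoh.Ab X :=
  Functor.ofSequence (X := fun _ => F) fun n => ((e n : S) : ℤ) • 𝟙 F

theorem diag_succ (F : EtCoh.Ab X) (n : ℕ) :
    (diag S e F).map (homOfLE (Nat.le_succ n)) = ((e n : S) : ℤ) • 𝟙 F :=
  Functor.ofSequence_map_homOfLE_succ _ n

variable {S}
variable (hdiv : ∀ s : S, IsIso ((s : ℤ) • 𝟙 G))

/-- The cocone `φ / aₙ`. -/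
noncomputable def cocone : Cocone (diag S e F) where
  pt := G
  ι := NatTrans.ofSequence (fun n => φ ≫ @inv _ _ _ _ _ (hdiv (aprod S e n))) fun n => by
    haveI := hdiv (aprod S e n)
    haveI := hdiv (aprod S e (n + 1))
    show (diag S e F).map _ ≫ φ ≫ inv ((aprod S e (n + 1) : ℤ) • 𝟙 G) =
      (φ ≫ inv ((aprod S e n : ℤ) • 𝟙 G)) ≫ 𝟙 G
    rw [Category.comp_id, diag_succ, ← cancel_mono ((aprod S e (n + 1) : ℤ) • 𝟙 G)]
    simp only [Category.assoc, IsIso.inv_hom_id, Category.comp_id]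
    show _ = φ ≫ inv ((aprod S e n : ℤ) • 𝟙 G) ≫ (((aprod S e n * e n : S) : ℤ) • 𝟙 G)
    rw [Submonoid.coe_mul, mul_comm, mul_smul, Preadditive.comp_zsmul, IsIso.inv_hom_id]
    exact (cat_zsmul_id_comp _ φ).trans (cat_comp_zsmul_id _ φ).symm

theorem cocone_app_comp (n : ℕ) :
    (cocone φ e hdiv).ι.app n ≫ ((aprod S e n : ℤ) • 𝟙 G) = φ := by
  haveI := hdiv (aprod S e n)
  show (φ ≫ inv _) ≫ _ = φ
  rw [Category.assoc, IsIso.inv_hom_id, Category.comp_id]

variable (hφ : ∀ U : X.Etale, IsAffine U.left →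
  IsLocalizedModule S (φ.hom.app (op U)).hom.toIntLinearMap)

include hφ in
theorem isIso_smul (s : S) : IsIso ((s : ℤ) • 𝟙 G) := by
  rw [isIso_iff_stalk]
  intro Ω _ _ ξ
  have hb : ∀ (V : X.Etale), IsAffine V.left → Function.Bijective fun g : G.obj.obj (op V) => (s : ℤ) • g := by
    intro V hV
    have := (hφ V hV).map_units s
    rw [Module.End.isUnit_iff] at this
    exact this
  refine ⟨(injective_iff_map_eq_zero _).2 fun p hp => ?_, fun p => ?_⟩
  · obtain ⟨U, x, g, rfl⟩ := germ_surjective ξ G p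
    rw [stalk_zsmul] at hp
    obtain ⟨V, f, y, hy, he⟩ := (germ_eq_iff ξ G x _ 0).1 (hp.trans (map_zero _).symm)
    obtain ⟨W, k, z, hW, hz⟩ := exists_affine_germ G ξ y
    rw [map_zsmul, map_zero] at he
    have h0 : G.obj.map k.op (G.obj.map f.op g) = 0 := (hb W hW).1 (by
      show (s : ℤ) • _ = (s : ℤ) • (0 : G.obj.obj (op W))
      rw [← map_zsmul, he, map_zero, smul_zero])
    rw [← hy, ← germ_map, ← hz, ← germ_map, h0, map_zero]
  · obtain ⟨U, x, g, rfl⟩ := germ_surjective ξ G p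
    obtain ⟨W, k, z, hW, rfl⟩ := exists_affine_germ G ξ x
    obtain ⟨g', hg'⟩ := (hb W hW).2 (G.obj.map k.op g)
    refine ⟨germ ξ G z g', ?_⟩
    rw [stalk_zsmul, ← germ_map]
    exact congrArg (germ ξ G z) hg'

include hφ in
theorem isIso_desc (he : ∀ (n : ℕ) (t : S), ∃ j, n ≤ j ∧ e j = t) :
    IsIso (colimit.desc (diag S e F) (cocone φ e hdiv)) := by
  rw [isIso_iff_stalk]
  intro Ω _ _ ξ
  haveI : (EtCoh.stalk ξ).IsLeftAdjoint :=
    (Scheme.pointSmallEtale ξ).skyscraperSheafAdjunction.isLeftAdjoint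
  have hmul : ∀ (n : ℕ) {U : X.Etale} (x : fib ξ U) (m : F.obj.obj (op U)),
      (EtCoh.stalk ξ).map (colimit.desc (diag S e F) (cocone φ e hdiv))
        ((EtCoh.stalk ξ).map (colimit.ι (diag S e F) n) (germ ξ F x m)) =
      germ ξ G x (((cocone φ e hdiv).ι.app n).hom.app (op U) m) := by
    intro n U x m
    rw [← ConcreteCategory.comp_apply, ← Functor.map_comp, colimit.ι_desc]
    exact germ_nat ξ _ x m
  have hres : ∀ (n : ℕ) {U : X.Etale} (m : F.obj.obj (op U)),
      (aprod S e n : ℤ) • (((cocone φ e hdiv).ι.app n).hom.app (op U) m) = φ.hom.app (op U) m := by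
    intro n U m
    rw [← app_zsmul]
    exact ConcreteCategory.congr_hom
      (congrArg (fun ψ : F ⟶ G => ψ.hom.app (op U)) (cocone_app_comp φ e hdiv n)) m
  refine ⟨(injective_iff_map_eq_zero _).2 fun q hq => ?_, fun p => ?_⟩
  · obtain ⟨n, p, rfl⟩ := Concrete.isColimit_exists_rep (diag S e F ⋙ EtCoh.stalk ξ)
      (isColimitOfPreserves (EtCoh.stalk ξ) (colimit.isColimit _)) q
    obtain ⟨U, x, m, rfl⟩ := germ_surjective ξ F p
    change (EtCoh.stalk ξ).map _ ((EtCoh.stalk ξ).map (colimit.ι (diag S e F) n) (germ ξ F x m)) = 0 at hq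
    show (EtCoh.stalk ξ).map (colimit.ι (diag S e F) n) (germ ξ F x m) = 0
    rw [hmul] at hq
    obtain ⟨V, f, y, hy, he'⟩ := (germ_eq_iff ξ G x _ 0).1 (hq.trans (map_zero _).symm)
    obtain ⟨W, k, z, hW, hz⟩ := exists_affine_germ F ξ y
    rw [map_zero] at he'
    replace he' := (NatTrans.naturality_apply ((cocone φ e hdiv).ι.app n).hom f.op m).trans he'
    have h0 : φ.hom.app (op W) (F.obj.map k.op (F.obj.map f.op m)) = 0 := by
      rw [← hres n]
      exact (congrArg (fun r => (aprod S e n : ℤ) • r)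
        ((NatTrans.naturality_apply ((cocone φ e hdiv).ι.app n).hom k.op (F.obj.map f.op m)).trans
          ((congrArg (G.obj.map k.op) he').trans (map_zero _)))).trans (smul_zero _)
    obtain ⟨t, ht⟩ := (hφ W hW).exists_of_eq (x₁ := F.obj.map k.op (F.obj.map f.op m)) (x₂ := 0)
      (by simpa using h0)
    rw [smul_zero] at ht
    obtain ⟨j, hnj, hj⟩ := he n t
    let r := F.obj.map k.op (F.obj.map f.op m)
    let d₁ : F ⟶ F := (diag S e F).map (homOfLE hnj)
    have hdm : (diag S e F).map (homOfLE (hnj.trans (Nat.le_succ j))) = d₁ ≫ ((t : ℤ) • 𝟙 F) := by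
      rw [← homOfLE_comp hnj (Nat.le_succ j), Functor.map_comp, diag_succ, hj]
    have h1 : (EtCoh.stalk ξ).map ((diag S e F).map (homOfLE (hnj.trans (Nat.le_succ j)))) (germ ξ F z r) = 0 := by
      rw [hdm]
      erw [Functor.map_comp, ConcreteCategory.comp_apply, germ_nat, stalk_zsmul]
      erw [← map_zsmul (d₁.hom.app (op W)).hom, show (t : ℤ) • r = 0 from ht]
      simp
    rw [← hy, ← germ_map, ← hz, ← germ_map, ← colimit.w (diag S e F) (homOfLE (hnj.trans (Nat.le_succ j))),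
      Functor.map_comp, ConcreteCategory.comp_apply]
    exact (congrArg _ h1).trans (map_zero _)
  · obtain ⟨U, x, g, rfl⟩ := germ_surjective ξ G p
    obtain ⟨W, k, z, hW, rfl⟩ := exists_affine_germ G ξ x
    obtain ⟨⟨m, t⟩, hmt⟩ := (hφ W hW).surj (G.obj.map k.op g)
    obtain ⟨j, -, hj⟩ := he 0 t
    refine ⟨(EtCoh.stalk ξ).map (colimit.ι (diag S e F) (j + 1))
      (germ ξ F z ((aprod S e j : ℤ) • m)), ?_⟩
    rw [hmul, ← germ_map]
    refine congrArg (germ ξ G z) ?_
    have hinj : Function.Injective fun r : G.obj.obj (op W) => (aprod S e (j + 1) : ℤ) • r := by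
      have := (hφ W hW).map_units (aprod S e (j + 1))
      rw [Module.End.isUnit_iff] at this
      exact this.1
    refine hinj ?_
    show (aprod S e (j + 1) : ℤ) • _ = (aprod S e (j + 1) : ℤ) • _
    rw [hres, map_zsmul, show aprod S e (j + 1) = aprod S e j * e j from rfl, Submonoid.coe_mul, hj, mul_smul]
    exact congrArg (fun r => (aprod S e j : ℤ) • r) hmt.symm

theorem isLocalizedModule_HF [CompactSpace X] [QuasiSeparatedSpace X]
    (hφ : ∀ U : X.Etale, IsAffine U.left →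
      IsLocalizedModule S (φ.hom.app (op U)).hom.toIntLinearMap) (i : ℕ) :
    IsLocalizedModule S ((EtCoh.HF X i).map φ).hom.toIntLinearMap := by
  haveI : Countable S := Subtype.countable
  obtain ⟨e₀, he₀⟩ := exists_surjective_nat S
  let e : ℕ → S := fun n => e₀ n.unpair.1
  have he : ∀ (n : ℕ) (t : S), ∃ j, n ≤ j ∧ e j = t := fun n t => by
    obtain ⟨k, rfl⟩ := he₀ t
    exact ⟨Nat.pair k n, Nat.right_le_pair _ _, by simp [e]⟩
  have hdiv := fun s => isIso_smul φ hφ s
  haveI := isIso_desc φ e hdiv hφ he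
  haveI : (EtCoh.HF X i).Additive := additive_HF i
  let Λ := ULift.{u + 1} ℕ
  haveI : PreservesColimitsOfShape ℕ (EtCoh.HF X i) := by
    haveI := EtColim.preservesColimitsOfShape_HF_small X i (AsSmall.{u} ℕ)
    exact preservesColimitsOfShape_of_equiv (AsSmall.equiv (C := ℕ)).symm (EtCoh.HF X i)
  have hcol : IsColimit (cocone φ e hdiv) := by
    haveI : IsIso ((colimit.isColimit (diag S e F)).desc (cocone φ e hdiv)) := ‹_›
    exact IsColimit.ofPointIso (colimit.isColimit _)
  have hcolH := isColimitOfPreserves (EtCoh.HF X i) hcol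
  have hsm : ∀ (z : ℤ) (H : EtCoh.Ab X) (q : (EtCoh.HF X i).obj H),
      (EtCoh.HF X i).map (z • 𝟙 H) q = z • q := fun z H q => by
    rw [Functor.map_zsmul, CategoryTheory.Functor.map_id]; exact ab_zsmul_id z _ q
  refine ⟨fun s => ?_, fun q => ?_, fun {p₁ p₂} hp => ?_⟩
  · rw [Module.End.isUnit_iff]
    haveI := hdiv s
    have := ConcreteCategory.bijective_of_isIso ((EtCoh.HF X i).map ((s : ℤ) • 𝟙 G))
    rw [show (⇑(ConcreteCategory.hom ((EtCoh.HF X i).map ((s : ℤ) • 𝟙 G))) : _ → _) =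
      fun q => (s : ℤ) • q from funext (hsm _ G)] at this
    exact this
  · obtain ⟨n, x, rfl⟩ := Concrete.isColimit_exists_rep _ hcolH q
    refine ⟨(x, aprod S e n), ?_⟩
    show (aprod S e n : ℤ) • (EtCoh.HF X i).map ((cocone φ e hdiv).ι.app n) x = (EtCoh.HF X i).map φ x
    rw [← hsm, ← ConcreteCategory.comp_apply, ← Functor.map_comp, cocone_app_comp]
    rfl
  · have h0 : (EtCoh.HF X i).map φ (p₁ - p₂) = 0 := by
      rw [map_sub]; exact sub_eq_zero.2 hp
    have hι : (cocone φ e hdiv).ι.app 0 = φ := by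
      have := cocone_app_comp φ e hdiv 0
      rw [show aprod S e 0 = 1 from rfl, Submonoid.coe_one, one_smul] at this
      exact (Category.comp_id _).symm.trans this
    obtain ⟨j, f, g, hfg⟩ := Concrete.isColimit_exists_of_rep_eq (diag S e F ⋙ EtCoh.HF X i) hcolH
      (i := 0) (j := 0) (p₁ - p₂) 0 (by
        show (EtCoh.HF X i).map ((cocone φ e hdiv).ι.app 0) _ = (EtCoh.HF X i).map ((cocone φ e hdiv).ι.app 0) 0
        rw [hι]; exact h0.trans (map_zero _).symm)
    refine ⟨aprod S e j, ?_⟩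
    rw [map_zero] at hfg
    have hmap : ∀ k : ℕ, (diag S e F).map (homOfLE (Nat.zero_le k)) = (aprod S e k : ℤ) • 𝟙 F := by
      intro k
      induction k with
      | zero => exact ((diag S e F).map_id 0).trans (one_smul ℤ _).symm
      | succ k ih =>
        rw [← homOfLE_comp (Nat.zero_le k) (Nat.le_succ k), Functor.map_comp, diag_succ, ih]
        show ((aprod S e k : ℤ) • 𝟙 F) ≫ (((e k : S) : ℤ) • 𝟙 F) = ((aprod S e k * e k : S) : ℤ) • 𝟙 F
        rw [Preadditive.zsmul_comp, Category.id_comp, smul_smul, Submonoid.coe_mul]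
    have h1 : (aprod S e j : ℤ) • (p₁ - p₂) = 0 := by
      rw [← hsm, ← hmap j]
      exact hfg
    rw [smul_sub, sub_eq_zero] at h1
    exact h1

end Groth.Agent.EtLocalize24
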